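import Mathlib

/-!
Support of the generating series of Hodge numbers of smooth complete intersections.
-/

set_option autoImplicit false

open MvPowerSeries Finset

namespace Groth.Agent.HodgeSupp

variable {σ : Type*}

/-- All coefficients are nonnegative. -/
def NN (f : MvPowerSeries σ ℤ) : Prop := ∀ m, 0 ≤ coeff m f

/-- The monomial lies in the support with a positive coefficient. -/
def Supp (f : MvPowerSeries σ ℤ) (m : σ →₀ ℕ) : Prop := 0 < coeff m f

theorem NN.one : NN (1 : MvPowerSeries σ ℤ) := fun m => by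
  classical
  rw [coeff_one]; split <;> norm_num

theorem supp_one_iff (m : σ →₀ ℕ) : Supp (1 : MvPowerSeries σ ℤ) m ↔ m = 0 := by
  classical
  rw [Supp, coeff_one]; split <;> simp_all

theorem NN.add {f g : MvPowerSeries σ ℤ} (hf : NN f) (hg : NN g) : NN (f + g) := fun m => by
  rw [map_add]; exact add_nonneg (hf m) (hg m)

theorem NN.mul {f g : MvPowerSeries σ ℤ} (hf : NN f) (hg : NN g) : NN (f * g) := fun m => by
  classical
  rw [coeff_mul]
  exact Finset.sum_nonneg fun x _ => mul_nonneg (hf _) (hg _)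

theorem Supp.mul {f g : MvPowerSeries σ ℤ} (hf : NN f) (hg : NN g) {m n : σ →₀ ℕ}
    (hm : Supp f m) (hn : Supp g n) : Supp (f * g) (m + n) := by
  classical
  rw [Supp, coeff_mul]
  refine lt_of_lt_of_le (mul_pos hm hn)
    (Finset.single_le_sum (f := fun x : (σ →₀ ℕ) × (σ →₀ ℕ) => coeff x.1 f * coeff x.2 g)
      (fun x _ => mul_nonneg (hf _) (hg _)) (a := (m, n)) (by simp))

theorem Supp.exists_of_mul {f g : MvPowerSeries σ ℤ} (hf : NN f) (hg : NN g) {k : σ →₀ ℕ}
    (h : Supp (f * g) k) : ∃ m n, m + n = k ∧ Supp f m ∧ Supp g n := by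
  classical
  rw [Supp, coeff_mul] at h
  obtain ⟨⟨m, n⟩, hx, h0⟩ := Finset.exists_ne_zero_of_sum_ne_zero h.ne'
  rw [Finset.HasAntidiagonal.mem_antidiagonal] at hx
  exact ⟨m, n, hx, lt_of_le_of_ne (hf m) (Ne.symm (left_ne_zero_of_mul h0)),
    lt_of_le_of_ne (hg n) (Ne.symm (right_ne_zero_of_mul h0))⟩

/-- Abbreviation for the exponent `(p, q)`. -/
noncomputable def ex (p q : ℕ) : Fin 2 →₀ ℕ := Finsupp.single 0 p + Finsupp.single 1 q

@[simp] theorem ex_zero (p q : ℕ) : ex p q 0 = p := by simp [ex]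
@[simp] theorem ex_one (p q : ℕ) : ex p q 1 = q := by simp [ex]

theorem ex_eta (m : Fin 2 →₀ ℕ) : ex (m 0) (m 1) = m := by
  ext i; fin_cases i <;> simp

theorem ex_add (p q p' q' : ℕ) : ex p q + ex p' q' = ex (p + p') (q + q') := by
  ext i; fin_cases i <;> simp

theorem ex_inj {p q p' q' : ℕ} : ex p q = ex p' q' ↔ p = p' ∧ q = q' := by
  refine ⟨fun h => ⟨?_, ?_⟩, fun ⟨h₁, h₂⟩ => by rw [h₁, h₂]⟩
  · simpa using DFunLike.congr_fun h 0
  · simpa using DFunLike.congr_fun h 1

theorem coeff_sum_monomials (b : ℕ) (P : ℕ → ℕ → Prop) [∀ u v, Decidable (P u v)] (c : ℕ → ℕ → ℕ)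
    (hP : ∀ u v, P u v → u < b ∧ v < b) (p q : ℕ) :
    coeff (ex p q) (∑ u ∈ Finset.range b, ∑ v ∈ Finset.range b,
      if P u v then (c u v : MvPowerSeries (Fin 2) ℤ) * X 0 ^ u * X 1 ^ v else 0) =
      if P p q then (c p q : ℤ) else 0 := by
  classical
  have h1 : ∀ u v, coeff (ex p q)
      (if P u v then (c u v : MvPowerSeries (Fin 2) ℤ) * X 0 ^ u * X 1 ^ v else 0) =
      if P u v ∧ u = p ∧ v = q then (c u v : ℤ) else 0 := by
    intro u v
    by_cases hp : P u v
    · rw [if_pos hp, X_pow_eq, X_pow_eq, show (c u v : MvPowerSeries (Fin 2) ℤ) =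
        monomial 0 (c u v : ℤ) from (map_natCast (C : ℤ →+* MvPowerSeries (Fin 2) ℤ) _).symm,
        monomial_mul_monomial, monomial_mul_monomial, coeff_monomial]
      simp only [zero_add, mul_one, hp, true_and]
      exact if_congr (by rw [← ex_inj]; exact eq_comm) rfl rfl
    · rw [if_neg hp, map_zero, if_neg fun h => hp h.1]
  simp only [map_sum, h1]
  by_cases hpq : P p q
  · rw [if_pos hpq, Finset.sum_eq_single p, Finset.sum_eq_single q]
    · simp [hpq]
    · intro v _ hv; simp [hv]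
    · intro h; exact absurd (Finset.mem_range.mpr (hP p q hpq).2) h
    · intro u _ hu; simp [hu]
    · intro h; exact absurd (Finset.mem_range.mpr (hP p q hpq).1) h
  · rw [if_neg hpq]
    refine Finset.sum_eq_zero fun u _ => Finset.sum_eq_zero fun v _ => if_neg ?_
    rintro ⟨h, rfl, rfl⟩
    exact hpq h

/-- Support of one hypersurface series. -/
def Hyp (a : ℕ) (m : Fin 2 →₀ ℕ) : Prop :=
  m 0 + m 1 + 2 ≤ a * (m 0 + 1) ∧ m 0 + m 1 + 2 ≤ a * (m 1 + 1)

theorem hyp_series (a : ℕ) (H : MvPowerSeries (Fin 2) ℤ)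
    (h : (1 - ∑ u ∈ Finset.range (a + 1), ∑ v ∈ Finset.range (a + 1),
      if 1 ≤ u ∧ 1 ≤ v ∧ u + v ≤ a then
        (a.choose (u + v) : MvPowerSeries (Fin 2) ℤ) * X 0 ^ u * X 1 ^ v else 0) * H =
      ∑ u ∈ Finset.range a, ∑ v ∈ Finset.range a,
        if u + v + 1 ≤ a - 1 then
          ((a - 1).choose (u + v + 1) : MvPowerSeries (Fin 2) ℤ) * X 0 ^ u * X 1 ^ v else 0) :
    NN H ∧ ∀ m, Supp H m ↔ Hyp a m := by
  classical
  set P : MvPowerSeries (Fin 2) ℤ := ∑ u ∈ Finset.range (a + 1), ∑ v ∈ Finset.range (a + 1),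
      if 1 ≤ u ∧ 1 ≤ v ∧ u + v ≤ a then
        (a.choose (u + v) : MvPowerSeries (Fin 2) ℤ) * X 0 ^ u * X 1 ^ v else 0 with hP
  set N : MvPowerSeries (Fin 2) ℤ := ∑ u ∈ Finset.range a, ∑ v ∈ Finset.range a,
        if u + v + 1 ≤ a - 1 then
          ((a - 1).choose (u + v + 1) : MvPowerSeries (Fin 2) ℤ) * X 0 ^ u * X 1 ^ v else 0 with hN
  have cP : ∀ u v, coeff (ex u v) P =
      if 1 ≤ u ∧ 1 ≤ v ∧ u + v ≤ a then (a.choose (u + v) : ℤ) else 0 := fun u v =>
    coeff_sum_monomials (a + 1) (fun u v => 1 ≤ u ∧ 1 ≤ v ∧ u + v ≤ a)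
      (fun u v => a.choose (u + v)) (fun u v h => by omega) u v
  have cN : ∀ u v, coeff (ex u v) N =
      if u + v + 1 ≤ a - 1 then ((a - 1).choose (u + v + 1) : ℤ) else 0 := fun u v =>
    coeff_sum_monomials a (fun u v => u + v + 1 ≤ a - 1)
      (fun u v => (a - 1).choose (u + v + 1)) (fun u v h => by omega) u v
  have hrec : H = N + P * H := by rw [← h]; ring
  have nnN : NN N := fun m => by
    rw [← ex_eta m, cN]; split <;> simp
  have suppN : ∀ u v, Supp N (ex u v) ↔ u + v + 1 ≤ a - 1 := fun u v => by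
    rw [Supp, cN]
    split_ifs with hh
    · simp only [hh, iff_true, Nat.cast_pos]; exact Nat.choose_pos hh
    · simp [hh]
  have nnP : ∀ x : Fin 2 →₀ ℕ, 0 ≤ coeff x P := fun x => by
    rw [← ex_eta x, cP]; split <;> simp
  have suppP : ∀ u v, 0 < coeff (ex u v) P ↔ 1 ≤ u ∧ 1 ≤ v ∧ u + v ≤ a := fun u v => by
    rw [cP]
    split_ifs with hh
    · simp only [hh, and_self, iff_true, Nat.cast_pos]; exact Nat.choose_pos hh.2.2
    · simp [hh]
  suffices key : ∀ p q, 0 ≤ coeff (ex p q) H ∧ (0 < coeff (ex p q) H ↔ Hyp a (ex p q)) by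
    refine ⟨fun m => ?_, fun m => ?_⟩
    · rw [← ex_eta m]; exact (key _ _).1
    · rw [← ex_eta m]; exact (key _ _).2
  intro p
  induction p using Nat.strong_induction_on with
  | _ p ih =>
    intro q
    have hterm : ∀ x ∈ Finset.HasAntidiagonal.antidiagonal (ex p q), 0 ≤ coeff x.1 P * coeff x.2 H ∧
        (coeff x.1 P * coeff x.2 H ≠ 0 → Hyp a (ex p q)) := by
      rintro ⟨x, y⟩ hxy
      rw [Finset.HasAntidiagonal.mem_antidiagonal] at hxy
      by_cases hx : coeff x P = 0
      · exact ⟨by simp [hx], fun h0 => absurd (by simp [hx]) h0⟩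
      have hx' : 0 < coeff (ex (x 0) (x 1)) P := by
        rw [ex_eta]; exact lt_of_le_of_ne (nnP x) (Ne.symm hx)
      have hxb := (suppP _ _).mp hx'
      have h0 : x 0 + y 0 = p := by simpa using DFunLike.congr_fun hxy 0
      have h1 : x 1 + y 1 = q := by simpa using DFunLike.congr_fun hxy 1
      have hy := ih (y 0) (by omega) (y 1)
      rw [ex_eta] at hy
      refine ⟨mul_nonneg (nnP x) hy.1, fun hne => ?_⟩
      obtain ⟨hy1, hy2⟩ := hy.2.mp (lt_of_le_of_ne hy.1 (Ne.symm (right_ne_zero_of_mul hne)))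
      have e1 : a * (y 0 + 1) + a ≤ a * (p + 1) := by
        rw [← Nat.mul_succ]; exact Nat.mul_le_mul_left a (by omega)
      have e2 : a * (y 1 + 1) + a ≤ a * (q + 1) := by
        rw [← Nat.mul_succ]; exact Nat.mul_le_mul_left a (by omega)
      constructor <;> simp only [ex_zero, ex_one] <;> omega
    have hsum : coeff (ex p q) (P * H) =
        ∑ x ∈ Finset.HasAntidiagonal.antidiagonal (ex p q), coeff x.1 P * coeff x.2 H := coeff_mul _ _ _
    have hnn : 0 ≤ coeff (ex p q) (P * H) := by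
      rw [hsum]; exact Finset.sum_nonneg fun x hx => (hterm x hx).1
    have hH : coeff (ex p q) H = coeff (ex p q) N + coeff (ex p q) (P * H) := by
      rw [← map_add, ← hrec]
    refine ⟨by rw [hH]; exact add_nonneg (nnN _) hnn, fun hpos => ?_, fun hh => ?_⟩
    · rw [hH] at hpos
      by_cases hn : 0 < coeff (ex p q) N
      · have := (suppN p q).mp hn
        have e1 : a ≤ a * (p + 1) := Nat.le_mul_of_pos_right a (Nat.succ_pos p)
        have e2 : a ≤ a * (q + 1) := Nat.le_mul_of_pos_right a (Nat.succ_pos q)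
        constructor <;> simp only [ex_zero, ex_one] <;> omega
      · obtain ⟨x, hx, hx0⟩ := Finset.exists_ne_zero_of_sum_ne_zero
          (show ∑ x ∈ Finset.HasAntidiagonal.antidiagonal (ex p q), coeff x.1 P * coeff x.2 H ≠ 0 by
            rw [← hsum]; have := nnN (ex p q); omega)
        exact (hterm x hx).2 hx0
    · rw [hH]
      obtain ⟨h1, h2⟩ := hh
      simp only [ex_zero, ex_one] at h1 h2
      by_cases hn : p + q + 1 ≤ a - 1
      · exact add_pos_of_pos_of_nonneg ((suppN p q).mpr hn) hnn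
      refine add_pos_of_nonneg_of_pos (nnN _) ?_
      rw [hsum]
      have hp : 1 ≤ p := by
        by_contra hp0
        have : p = 0 := by omega
        subst this; simp at h1; omega
      have hq : 1 ≤ q := by
        by_contra hq0
        have : q = 0 := by omega
        subst this; simp at h2; omega
      have ha : 2 ≤ a := by
        by_contra ha0
        interval_cases a <;> omega
      -- choose the first block
      obtain ⟨u, v, hu, hv, hup, hvq, huv, g1, g2⟩ : ∃ u v, 1 ≤ u ∧ 1 ≤ v ∧ u ≤ p ∧ v ≤ q ∧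
          u + v ≤ a ∧ (p - u) + (q - v) + 2 ≤ a * (p - u + 1) ∧
          (p - u) + (q - v) + 2 ≤ a * (q - v + 1) := by
        rcases le_total p q with hle | hle
        · by_cases hc : p + a ≤ q + 2
          · refine ⟨1, a - 1, le_rfl, by omega, hp, by omega, by omega, ?_, ?_⟩
            · rw [show p - 1 + 1 = p by omega]; rw [Nat.mul_succ] at h1; omega
            · have e := Nat.mul_le_mul ha (le_refl (q - (a - 1) + 1)); omega
          · refine ⟨1, max 1 (q + 1 - p), le_rfl, le_max_left _ _, hp, by omega, by omega, ?_, ?_⟩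
            · have e := Nat.mul_le_mul ha (le_refl (p - 1 + 1)); omega
            · have e := Nat.mul_le_mul ha (le_refl (q - max 1 (q + 1 - p) + 1)); omega
        · by_cases hc : q + a ≤ p + 2
          · refine ⟨a - 1, 1, by omega, le_rfl, by omega, hq, by omega, ?_, ?_⟩
            · have e := Nat.mul_le_mul ha (le_refl (p - (a - 1) + 1)); omega
            · rw [show q - 1 + 1 = q by omega]; rw [Nat.mul_succ] at h2; omega
          · refine ⟨max 1 (p + 1 - q), 1, le_max_left _ _, le_rfl, by omega, hq, by omega, ?_, ?_⟩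
            · have e := Nat.mul_le_mul ha (le_refl (p - max 1 (p + 1 - q) + 1)); omega
            · have e := Nat.mul_le_mul ha (le_refl (q - 1 + 1)); omega
      have hy := (ih (p - u) (by omega) (q - v)).2.mpr
        ⟨by simp only [ex_zero, ex_one]; exact g1, by simp only [ex_zero, ex_one]; exact g2⟩
      refine lt_of_lt_of_le (mul_pos ((suppP u v).mpr ⟨hu, hv, huv⟩) hy)
        (Finset.single_le_sum (f := fun x : (Fin 2 →₀ ℕ) × (Fin 2 →₀ ℕ) => coeff x.1 P * coeff x.2 H)
          (fun x hx => (hterm x hx).1) (a := (ex u v, ex (p - u) (q - v))) ?_)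
      rw [Finset.HasAntidiagonal.mem_antidiagonal, ex_add, Nat.add_sub_cancel' hup,
        Nat.add_sub_cancel' hvq]

/-- Products over a finite family. -/
theorem nn_prod {ι : Type*} (s : Finset ι) (f : ι → MvPowerSeries σ ℤ) (hf : ∀ i ∈ s, NN (f i)) :
    NN (∏ i ∈ s, f i) := by
  classical
  induction s using Finset.induction_on with
  | empty => simpa using NN.one
  | insert i s hi ih =>
    rw [Finset.prod_insert hi]
    exact (hf i (by simp)).mul (ih fun j hj => hf j (Finset.mem_insert_of_mem hj))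

theorem supp_prod {ι : Type*} (s : Finset ι) (f : ι → MvPowerSeries σ ℤ) (hf : ∀ i ∈ s, NN (f i))
    (g : ι → σ →₀ ℕ) (hg : ∀ i ∈ s, Supp (f i) (g i)) : Supp (∏ i ∈ s, f i) (∑ i ∈ s, g i) := by
  classical
  induction s using Finset.induction_on with
  | empty => simp [supp_one_iff]
  | insert i s hi ih =>
    rw [Finset.prod_insert hi, Finset.sum_insert hi]
    exact (hg i (by simp)).mul (hf i (by simp))
      (nn_prod s f fun j hj => hf j (Finset.mem_insert_of_mem hj))
      (ih (fun j hj => hf j (Finset.mem_insert_of_mem hj))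
        fun j hj => hg j (Finset.mem_insert_of_mem hj))

theorem exists_of_supp_prod {ι : Type*} (s : Finset ι) (f : ι → MvPowerSeries σ ℤ)
    (hf : ∀ i ∈ s, NN (f i)) (m : σ →₀ ℕ) (h : Supp (∏ i ∈ s, f i) m) :
    ∃ g : ι → σ →₀ ℕ, ∑ i ∈ s, g i = m ∧ ∀ i ∈ s, Supp (f i) (g i) := by
  classical
  induction s using Finset.induction_on generalizing m with
  | empty =>
    refine ⟨fun _ => 0, ?_, by simp⟩
    rw [Finset.prod_empty, supp_one_iff] at h
    simp [h]
  | insert i s hi ih =>
    rw [Finset.prod_insert hi] at h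
    obtain ⟨x, y, hxy, hx, hy⟩ := h.exists_of_mul (hf i (by simp))
      (nn_prod s f fun j hj => hf j (Finset.mem_insert_of_mem hj))
    obtain ⟨g, hg, hgs⟩ := ih (fun j hj => hf j (Finset.mem_insert_of_mem hj)) y hy
    refine ⟨Function.update g i x, ?_, fun j hj => ?_⟩
    · rw [Finset.sum_insert hi, Function.update_self, Finset.sum_congr rfl fun j hj =>
        Function.update_of_ne (fun (e : j = i) => hi (e ▸ hj)) x g, hg, hxy]
    · by_cases e : j = i
      · subst e; simpa using hx
      · rw [Function.update_of_ne e]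
        exact hgs j (by simpa [e] using hj)

theorem pow_series (n : ℕ) :
    NN (((1 + X 0) * (1 + X 1) : MvPowerSeries (Fin 2) ℤ) ^ n) ∧
      ∀ p q, Supp (((1 + X 0) * (1 + X 1) : MvPowerSeries (Fin 2) ℤ) ^ n) (ex p q) ↔
        p ≤ n ∧ q ≤ n := by
  classical
  set Q : MvPowerSeries (Fin 2) ℤ := (1 + X 0) * (1 + X 1) with hQ
  have hnnX : ∀ i : Fin 2, NN (1 + X i : MvPowerSeries (Fin 2) ℤ) := fun i =>
    NN.one.add fun m => by rw [coeff_X]; split <;> norm_num
  have hsX : ∀ (i : Fin 2) m, Supp (1 + X i : MvPowerSeries (Fin 2) ℤ) m ↔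
      m = 0 ∨ m = Finsupp.single i 1 := fun i m => by
    rw [Supp, map_add, coeff_one, coeff_X]
    by_cases h1 : m = 0
    · subst h1
      simp only [eq_self_iff_true, if_true, true_or, iff_true]
      split <;> norm_num
    · by_cases h2 : m = Finsupp.single i 1
      · subst h2; simp
      · simp [h1, h2]
  have hnnQ : NN Q := (hnnX 0).mul (hnnX 1)
  have hsQ : ∀ p q, Supp Q (ex p q) ↔ p ≤ 1 ∧ q ≤ 1 := fun p q => by
    constructor
    · intro h
      obtain ⟨x, y, hxy, hx, hy⟩ := h.exists_of_mul (hnnX 0) (hnnX 1)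
      have e0 : x 0 + y 0 = p := by simpa using DFunLike.congr_fun hxy 0
      have e1 : x 1 + y 1 = q := by simpa using DFunLike.congr_fun hxy 1
      rcases (hsX 0 x).mp hx with rfl | rfl <;> rcases (hsX 1 y).mp hy with rfl | rfl <;>
        simp at e0 e1 <;> omega
    · rintro ⟨hp, hq⟩
      have hx : Supp (1 + X 0 : MvPowerSeries (Fin 2) ℤ) (Finsupp.single 0 p) := by
        rw [hsX]; interval_cases p <;> simp
      have hy : Supp (1 + X 1 : MvPowerSeries (Fin 2) ℤ) (Finsupp.single 1 q) := by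
        rw [hsX]; interval_cases q <;> simp
      exact hx.mul (hnnX 0) (hnnX 1) hy
  induction n with
  | zero =>
    refine ⟨by simpa using NN.one, fun p q => ?_⟩
    rw [pow_zero, supp_one_iff, show (0 : Fin 2 →₀ ℕ) = ex 0 0 by simp [ex], ex_inj]
    omega
  | succ n ih =>
    rw [pow_succ]
    refine ⟨ih.1.mul hnnQ, fun p q => ⟨fun h => ?_, fun h => ?_⟩⟩
    · obtain ⟨x, y, hxy, hx, hy⟩ := h.exists_of_mul ih.1 hnnQ
      rw [← ex_eta x, ih.2] at hx
      rw [← ex_eta y, hsQ] at hy
      have e0 : x 0 + y 0 = p := by simpa using DFunLike.congr_fun hxy 0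
      have e1 : x 1 + y 1 = q := by simpa using DFunLike.congr_fun hxy 1
      omega
    · have h' := Supp.mul ih.1 hnnQ ((ih.2 (p - min p 1) (q - min q 1)).mpr (by omega))
        ((hsQ (min p 1) (min q 1)).mpr (by omega))
      rwa [ex_add, Nat.sub_add_cancel (min_le_left p 1), Nat.sub_add_cancel (min_le_left q 1)] at h'

/-- Distribute `q ≤ ∑ c` among boxes with capacities `c`. -/
theorem exists_distribute {ι : Type*} (s : Finset ι) (c : ι → ℕ) (q : ℕ) (hq : q ≤ ∑ i ∈ s, c i) :
    ∃ g : ι → ℕ, (∀ i ∈ s, g i ≤ c i) ∧ ∑ i ∈ s, g i = q := by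
  classical
  induction s using Finset.induction_on generalizing q with
  | empty => exact ⟨fun _ => 0, by simp, by simp at hq; simp [hq]⟩
  | insert i s hi ih =>
    rw [Finset.sum_insert hi] at hq
    obtain ⟨g, hg, hgs⟩ := ih (q - min q (c i)) (by omega)
    refine ⟨Function.update g i (min q (c i)), fun j hj => ?_, ?_⟩
    · by_cases e : j = i
      · subst e; simp
      · rw [Function.update_of_ne e]; exact hg j (by simpa [e] using hj)
    · rw [Finset.sum_insert hi, Function.update_self, Finset.sum_congr rfl fun j hj =>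
        Function.update_of_ne (fun (e : j = i) => hi (e ▸ hj)) _ g, hgs]
      omega

end Groth.Agent.HodgeSupp
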