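import Groth.Agent.HodgeSupp.Basic

/-!
Non-vanishing of the coefficients for complete intersections.
-/

set_option autoImplicit false

open MvPowerSeries Finset

namespace Groth.Agent.HodgeSupp

theorem coeff_ne_zero_iff (d : ℕ) (a : Fin d → ℕ) (ha : ∀ i, 1 ≤ a i)
    (Hs : Fin d → MvPowerSeries (Fin 2) ℤ) (hNN : ∀ i, NN (Hs i))
    (hS : ∀ i m, Supp (Hs i) m ↔ Hyp (a i) m) (p q : ℕ) (hpq : p ≤ q) :
    coeff (ex p q) (∑ P ∈ (Finset.univ : Finset (Fin d)).powerset with P.Nonempty,
      ((1 + X 0 : MvPowerSeries (Fin 2) ℤ) * (1 + X 1)) ^ (P.card - 1) * ∏ i ∈ P, Hs i) ≠ 0 ↔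
      p + q + d < p * Finset.univ.sup a + ∑ i, a i := by
  classical
  set M := Finset.univ.sup a with hM
  have hle : ∀ i, a i ≤ M := fun i => Finset.le_sup (Finset.mem_univ i)
  let T : Finset (Fin d) → MvPowerSeries (Fin 2) ℤ := fun P =>
    ((1 + X 0 : MvPowerSeries (Fin 2) ℤ) * (1 + X 1)) ^ (P.card - 1) * ∏ i ∈ P, Hs i
  have hT : ∀ P, NN (T P) := fun P => (pow_series _).1.mul (nn_prod P Hs fun i _ => hNN i)
  show coeff (ex p q) (∑ P ∈ _ with P.Nonempty, T P) ≠ 0 ↔ _
  rw [map_sum]
  constructor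
  · intro h
    obtain ⟨P, hP, hne⟩ := Finset.exists_ne_zero_of_sum_ne_zero h
    have hPne : P.Nonempty := (Finset.mem_filter.mp hP).2
    obtain ⟨x, y, hxy, hx, hy⟩ := Supp.exists_of_mul (f :=
      ((1 + X 0 : MvPowerSeries (Fin 2) ℤ) * (1 + X 1)) ^ (P.card - 1)) (g := ∏ i ∈ P, Hs i)
      (pow_series _).1 (nn_prod P Hs fun i _ => hNN i)
      (k := ex p q) (lt_of_le_of_ne (hT P _) (Ne.symm hne))
    rw [← ex_eta x, (pow_series _).2] at hx
    obtain ⟨g, hg, hgs⟩ := exists_of_supp_prod P Hs (fun i _ => hNN i) y hy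
    have e0 : x 0 + y 0 = p := by simpa using DFunLike.congr_fun hxy 0
    have e1 : x 1 + y 1 = q := by simpa using DFunLike.congr_fun hxy 1
    have hterm : ∀ i ∈ P, g i 0 + g i 1 + 2 ≤ M * g i 0 + a i := fun i hi => by
      have h1 := ((hS i _).mp (hgs i hi)).1
      have h2 := Nat.mul_le_mul_right (g i 0) (hle i)
      rw [Nat.mul_succ] at h1
      omega
    have hsum := Finset.sum_le_sum hterm
    simp only [Finset.sum_add_distrib, ← Finset.mul_sum, Finset.sum_const, smul_eq_mul] at hsum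
    have g0 : ∑ i ∈ P, g i 0 = y 0 := by rw [← hg, Finsupp.finsetSum_apply]
    have g1 : ∑ i ∈ P, g i 1 = y 1 := by rw [← hg, Finsupp.finsetSum_apply]
    rw [g0, g1] at hsum
    have hrest : (Pᶜ).card ≤ ∑ i ∈ Pᶜ, a i := by
      simpa using Finset.card_nsmul_le_sum Pᶜ a 1 (fun i _ => ha i)
    have hsplit : ∑ i ∈ P, a i + ∑ i ∈ Pᶜ, a i = ∑ i, a i := Finset.sum_add_sum_compl P a
    have hcard : P.card + (Pᶜ).card = d := by rw [Finset.card_add_card_compl, Fintype.card_fin]
    have hP1 : 1 ≤ P.card := hPne.card_pos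
    have hM1 : 1 ≤ M := le_trans (ha hPne.choose) (hle _)
    have hMp : x 0 + M * y 0 ≤ p * M := by
      have h1 := Nat.le_mul_of_pos_right (x 0) hM1
      rw [← e0, Nat.add_mul, Nat.mul_comm (y 0) M]
      omega
    omega
  · intro hlt
    have hd : 0 < d := by
      by_contra h0
      obtain rfl : d = 0 := by omega
      simp at hlt
      simp [hM] at hlt
    obtain ⟨i₀, -, hi₀⟩ := Finset.exists_mem_eq_sup Finset.univ
      (⟨⟨0, hd⟩, Finset.mem_univ _⟩ : (Finset.univ : Finset (Fin d)).Nonempty) a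
    have hM2 : 2 ≤ M := by
      by_contra h0
      have hall : ∀ i, a i = 1 := fun i => by have := ha i; have := hle i; omega
      have hM1 : M = 1 := by have := ha i₀; have := hle i₀; omega
      simp [hall, hM1] at hlt
    set P : Finset (Fin d) := Finset.univ.filter fun i => 2 ≤ a i with hP
    have hi₀P : i₀ ∈ P := by rw [hP, Finset.mem_filter]; exact ⟨Finset.mem_univ _, by omega⟩
    have hPne : P.Nonempty := ⟨i₀, hi₀P⟩
    set R : Finset (Fin d) := P.erase i₀ with hR
    have hRc : R.card + 1 = P.card := Finset.card_erase_add_one hi₀P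
    have hRs : a i₀ + ∑ i ∈ R, a i = ∑ i ∈ P, a i := Finset.add_sum_erase P a hi₀P
    have hcomp : ∑ i ∈ Pᶜ, a i = (Pᶜ).card := by
      rw [Finset.card_eq_sum_ones]
      refine Finset.sum_congr rfl fun i hi => ?_
      have := ha i
      simp [hP] at hi
      omega
    have hsplit : ∑ i ∈ P, a i + ∑ i ∈ Pᶜ, a i = ∑ i, a i := Finset.sum_add_sum_compl P a
    have hcard : P.card + (Pᶜ).card = d := by rw [Finset.card_add_card_compl, Fintype.card_fin]
    have hRcap : ∑ i ∈ R, (a i - 2) + 2 * R.card = ∑ i ∈ R, a i := by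
      rw [Finset.card_eq_sum_ones, Finset.mul_sum, ← Finset.sum_add_distrib]
      refine Finset.sum_congr rfl fun i hi => ?_
      have : 2 ≤ a i := (Finset.mem_filter.mp (Finset.mem_of_mem_erase hi)).2
      omega
    set K := p * M + M with hK
    have hcap0 : p + p + 2 ≤ K := by
      have := Nat.mul_le_mul_left p hM2
      omega
    set q₀ := min q (K - 2 - p) with hq₀
    set f := min (q - q₀) (P.card - 1) with hf
    have hrem : q - q₀ - f ≤ ∑ i ∈ R, (a i - 2) := by omega
    obtain ⟨g, hg, hgs⟩ := exists_distribute R (fun i => a i - 2) (q - q₀ - f) hrem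
    set G : Fin d → (Fin 2 →₀ ℕ) := fun i => if i = i₀ then ex p q₀ else ex 0 (g i) with hG
    have hGs : ∀ i ∈ P, Supp (Hs i) (G i) := by
      intro i hi
      rw [hS]
      by_cases e : i = i₀
      · subst e
        have hKe : a i * (p + 1) = K := by rw [hK, hM, hi₀]; ring
        have hmono : a i * (p + 1) ≤ a i * (q₀ + 1) :=
          Nat.mul_le_mul_left _ (by omega)
        constructor <;> simp only [hG, if_pos, ex_zero, ex_one] <;> omega
      · have hgi := hg i (Finset.mem_erase.mpr ⟨e, hi⟩)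
        have h2 : 2 ≤ a i := (Finset.mem_filter.mp hi).2
        have h3 : a i ≤ a i * (g i + 1) := Nat.le_mul_of_pos_right _ (Nat.succ_pos _)
        constructor <;> simp only [hG, if_neg e, ex_zero, ex_one, zero_add, mul_one] <;> omega
    have hGsum : ex 0 f + ∑ i ∈ P, G i = ex p q := by
      rw [← Finset.add_sum_erase P G hi₀P]
      have h1 : ∑ i ∈ R, G i = ex 0 (q - q₀ - f) := by
        rw [Finset.sum_congr rfl fun i hi => show G i = ex 0 (g i) by
          simp [hG, (Finset.mem_erase.mp hi).1], ← hgs]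
        refine Finsupp.ext fun j => ?_
        fin_cases j <;> simp [Finsupp.finsetSum_apply]
      rw [hR] at h1
      rw [h1]
      simp only [hG, if_pos, ex_add, zero_add, add_zero]
      rw [ex_inj]; omega
    have hpos : 0 < coeff (ex p q) (T P) := by
      rw [← hGsum]
      exact Supp.mul (pow_series _).1 (nn_prod P Hs fun i _ => hNN i)
        (((pow_series _).2 0 f).mpr ⟨Nat.zero_le _, by omega⟩)
        (supp_prod P Hs (fun i _ => hNN i) G hGs)
    refine (lt_of_lt_of_le hpos (Finset.single_le_sum (f := fun P => coeff (ex p q) (T P))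
      (fun P _ => hT P _) (a := P) ?_)).ne'
    exact Finset.mem_filter.mpr ⟨Finset.mem_powerset.mpr (Finset.subset_univ _), hPne⟩

end Groth.Agent.HodgeSupp
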